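import Groth.Agent.AlgSpB.Fpqc.Sheaf
import Groth.Agent.AlgSp.InfSpace
import Groth.Agent.AlgSp.AffineMor
import Groth.Prelude.Def_AlgSpCov

/-!
# Morphisms into algebraic spaces descend along fpqc coverings
-/

universe u

open CategoryTheory CategoryTheory.Limits AlgebraicGeometry Opposite

set_option autoImplicit false
set_option backward.isDefEq.respectTransparency false
set_option backward.isDefEq.respectTransparency.types false

namespace Groth.Agent.FpqcHom

open _root_.AlgSp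
open Groth.Agent
open Groth.Agent.AlgSp (yEquiv yEquiv_map)

variable {S : Scheme.{u}} {ι : Type u} {T B : Sp S} {Ti : ι → Sp S} {g : ∀ i, Ti i ⟶ T}

/-- Maps agree if they agree on the affine opens. -/
theorem hom_ext_affineOpens {X : Sp S} {U : Over S} {y₁ y₂ : (yon S).obj U ⟶ X}
    (h : ∀ V : U.left.affineOpens, (yon S).map (Over.homMk V.1.ι rfl : Over.mk (V.1.ι ≫ U.hom) ⟶ U) ≫ y₁ =
      (yon S).map (Over.homMk V.1.ι rfl : Over.mk (V.1.ι ≫ U.hom) ⟶ U) ≫ y₂) : y₁ = y₂ := by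
  refine AlgSpB.Fpqc.hom_ext_fppf (fun V : U.left.affineOpens => Over.mk (V.1.ι ≫ U.hom))
    (fun V => Over.homMk V.1.ι rfl) ?_ h
  refine AlgSpB.Fpqc.mem_fppf_of_etale (fun V : U.left.affineOpens => (V.1 : Scheme.{u})) (fun V => V.1.ι) fun t => ?_
  obtain ⟨V, hV, htV, -⟩ := exists_isAffineOpen_mem_and_subset (x := t) (U := ⊤) trivial
  refine ⟨⟨V, hV⟩, ?_⟩
  rw [Scheme.Opens.range_ι]
  exact htV

/-- The compatible value on a test object. -/
def Char (bi : ∀ i, Ti i ⟶ B) {Z : Over S} (h : (yon S).obj Z ⟶ T) (y : (yon S).obj Z ⟶ B) : Prop :=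
  ∀ (i : ι) (W : Over S) (c : W ⟶ Z) (l : (yon S).obj W ⟶ Ti i), l ≫ g i = (yon S).map c ≫ h →
    (yon S).map c ≫ y = l ≫ bi i

theorem unique_affine (hg : IsFpqcCover Ti g) (hB : IsAlgSpace B) {Z : Over S} [IsAffine Z.left]
    {y₁ y₂ : (yon S).obj Z ⟶ B} (h : (yon S).obj Z ⟶ T)
    (e : ∀ (i : ι) (W : Over S) (c : W ⟶ Z) (l : (yon S).obj W ⟶ Ti i), l ≫ g i = (yon S).map c ≫ h →
      (yon S).map c ≫ y₁ = (yon S).map c ≫ y₂) : y₁ = y₂ := by
  obtain ⟨m, W, c, hWa, hcf, hcs, hl⟩ := hg.2 Z inferInstance h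
  let W' : ULift.{u} (Fin m) → Scheme.{u} := fun j => (W j.down).left
  let d : (∐ W') ⟶ Z.left := Sigma.desc fun j => (c j.down).left
  let V : Over S := Over.mk (d ≫ Z.hom)
  let cV : V ⟶ Z := Over.homMk d rfl
  have : ∀ j, IsAffine (W' j) := fun j => hWa j.down
  have : IsAffine V.left := inferInstanceAs (IsAffine (∐ W'))
  have : ∀ j, Flat (c j).left := hcf
  have : Flat cV.left := inferInstanceAs (Flat (Sigma.desc fun j : ULift.{u} (Fin m) => (c j.down).left))
  have : Surjective cV.left := ⟨fun z => by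
    obtain ⟨j, w, rfl⟩ := hcs z
    exact ⟨Sigma.ι W' ⟨j⟩ w, by
      show (Sigma.ι W' ⟨j⟩ ≫ d) w = _
      rw [Sigma.ι_desc]⟩⟩
  have : IsAffineHom cV.left := isAffineHom_of_isAffine _
  refine AlgSpB.Fpqc.hom_ext_fpqc hB.diag cV ?_
  let ej : ∀ j : ULift.{u} (Fin m), W j.down ⟶ V := fun j => Over.homMk (Sigma.ι W' j) (by
    show Sigma.ι W' j ≫ d ≫ Z.hom = _
    rw [Sigma.ι_desc_assoc, Over.w])
  refine AlgSpB.Fpqc.hom_ext_fppf (fun j : ULift.{u} (Fin m) => W j.down) ej
    (AlgSpB.Fpqc.mem_fppf_of_etale W' (fun j => Sigma.ι W' j) fun v => ?_) fun j => ?_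
  · obtain ⟨j, w, hw⟩ := (sigmaOpenCover W').exists_eq v
    exact ⟨j, w, hw⟩
  · have hej : ej j ≫ cV = c j.down := Over.OverMorphism.ext (Sigma.ι_desc _ _)
    rw [← Functor.map_comp_assoc, ← Functor.map_comp_assoc, hej]
    obtain ⟨i, l, hli⟩ := hl j.down
    exact e i _ _ l hli

variable {bi : ∀ i, Ti i ⟶ B}

theorem exists_affine (hg : IsFpqcCover Ti g) (hB : IsAlgSpace B)
    (key : ∀ (i k : ι) (Z : Over S) (z₁ : (yon S).obj Z ⟶ Ti i) (z₂ : (yon S).obj Z ⟶ Ti k),
      z₁ ≫ g i = z₂ ≫ g k → z₁ ≫ bi i = z₂ ≫ bi k) {Z : Over S} [IsAffine Z.left] (h : (yon S).obj Z ⟶ T) :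
    ∃ y, Char (g := g) bi h y := by
  obtain ⟨m, W, c, hWa, hcf, hcs, hl⟩ := hg.2 Z inferInstance h
  choose ix l hli using hl
  let W' : ULift.{u} (Fin m) → Scheme.{u} := fun j => (W j.down).left
  let d : (∐ W') ⟶ Z.left := Sigma.desc fun j => (c j.down).left
  let V : Over S := Over.mk (d ≫ Z.hom)
  let cV : V ⟶ Z := Over.homMk d rfl
  have : ∀ j, IsAffine (W' j) := fun j => hWa j.down
  have : IsAffine V.left := inferInstanceAs (IsAffine (∐ W'))
  have : ∀ j, Flat (c j).left := hcf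
  have : Flat cV.left := inferInstanceAs (Flat (Sigma.desc fun j : ULift.{u} (Fin m) => (c j.down).left))
  have : Surjective cV.left := ⟨fun z => by
    obtain ⟨j, w, rfl⟩ := hcs z
    exact ⟨Sigma.ι W' ⟨j⟩ w, by
      show (Sigma.ι W' ⟨j⟩ ≫ d) w = _
      rw [Sigma.ι_desc]⟩⟩
  have : IsAffineHom cV.left := isAffineHom_of_isAffine _
  let ej : ∀ j : ULift.{u} (Fin m), W j.down ⟶ V := fun j => Over.homMk (Sigma.ι W' j) (by
    show Sigma.ι W' j ≫ d ≫ Z.hom = _
    rw [Sigma.ι_desc_assoc, Over.w])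
  have hej : ∀ j, ej j ≫ cV = c j.down := fun j => Over.OverMorphism.ext (Sigma.ι_desc _ _)
  have hcov : Presieve.ofArrows (fun j => (W j.down).left) (fun j => (ej j).left) ∈
      Scheme.fppfPrecoverage V.left := AlgSpB.Fpqc.mem_fppf_of_etale W' (fun j => Sigma.ι W' j) fun v => by
    obtain ⟨j, w, hw⟩ := (sigmaOpenCover W').exists_eq v
    exact ⟨j, w, hw⟩
  have hsh := (Presieve.isSheafFor_arrows_iff _ _).1
    (AlgSpB.Fpqc.isSheafFor_fppf B (fun j : ULift.{u} (Fin m) => W j.down) ej hcov)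
  obtain ⟨s, hs, -⟩ := hsh (fun j => yEquiv (l j.down ≫ bi (ix j.down))) fun j k Q qj qk hq => by
    rw [← yEquiv_map, ← yEquiv_map]
    congr 1
    rw [← Category.assoc, ← Category.assoc]
    refine key _ _ _ _ _ ?_
    rw [Category.assoc, Category.assoc, hli, hli, ← hej, ← hej, ← Functor.map_comp_assoc, ← Functor.map_comp_assoc,
      ← Category.assoc, hq, Category.assoc]
  let x : (yon S).obj V ⟶ B := yEquiv.symm s
  have hx : ∀ j, (yon S).map (ej j) ≫ x = l j.down ≫ bi (ix j.down) := fun j => yEquiv.injective (by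
    rw [yEquiv_map, Equiv.apply_symm_apply]; exact hs j)
  -- `x` agrees with every local lift
  have hxl : ∀ (i : ι) (Q : Over S) (a : Q ⟶ V) (la : (yon S).obj Q ⟶ Ti i),
      la ≫ g i = (yon S).map (a ≫ cV) ≫ h → (yon S).map a ≫ x = la ≫ bi i := by
    intro i Q a la hla
    let O : ∀ j, Over S := fun j => Over.mk (pullback.fst a.left (ej j).left ≫ Q.hom)
    let r : ∀ j, O j ⟶ Q := fun j => Over.homMk (pullback.fst _ _) rfl
    let r' : ∀ j, O j ⟶ W j.down := fun j => Over.homMk (pullback.snd a.left (ej j).left) (by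
      show pullback.snd _ _ ≫ _ = pullback.fst _ _ ≫ Q.hom
      rw [← Over.w (ej j), ← Over.w a, pullback.condition_assoc])
    have hr : ∀ j, r j ≫ a = r' j ≫ ej j := fun j => Over.OverMorphism.ext pullback.condition
    have : ∀ j, Etale (r j).left := fun j =>
      have : Etale (ej j).left := inferInstanceAs (Etale (Sigma.ι W' j))
      inferInstanceAs (Etale (pullback.fst a.left (ej j).left))
    refine AlgSpB.Fpqc.hom_ext_fppf O r
      (AlgSpB.Fpqc.mem_fppf_of_etale _ _ fun t => ?_) fun j => ?_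
    · obtain ⟨j, w, hw⟩ := (sigmaOpenCover W').exists_eq (a.left t)
      refine ⟨j, ?_⟩
      show t ∈ Set.range (pullback.fst a.left (ej j).left)
      rw [Scheme.Pullback.range_fst]
      exact ⟨w, hw⟩
    · rw [← Functor.map_comp_assoc, hr, Functor.map_comp, Category.assoc, hx, ← Category.assoc, ← Category.assoc]
      refine key _ _ _ _ _ ?_
      rw [Category.assoc, Category.assoc, hli, hla, ← hej, ← Functor.map_comp_assoc, ← Functor.map_comp_assoc,
        ← Category.assoc (r' j), ← hr, Category.assoc]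
  obtain ⟨y, hy, -⟩ := AlgSpB.Fpqc.existsUnique_hom hB cV x fun Q q₁ q₂ hq => by
    refine hom_ext_affineOpens fun A => ?_
    have : IsAffine (Over.mk (A.1.ι ≫ Q.hom)).left := A.2
    refine unique_affine hg hB ((yon S).map ((Over.homMk A.1.ι rfl : Over.mk (A.1.ι ≫ Q.hom) ⟶ Q) ≫ q₁ ≫ cV) ≫ h)
      fun i R c' la hla => ?_
    rw [← Functor.map_comp_assoc, ← Functor.map_comp_assoc, ← Functor.map_comp_assoc, ← Functor.map_comp_assoc]
    rw [← Functor.map_comp_assoc] at hla
    rw [hxl i R _ la (by simpa using hla), hxl i R _ la (by simpa [hq] using hla)]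
  refine ⟨y, fun i R c' la hla => hom_ext_affineOpens fun A => ?_⟩
  let iA : Over.mk (A.1.ι ≫ R.hom) ⟶ R := Over.homMk A.1.ι rfl
  let d' : Over S := Over.mk (pullback.fst (iA ≫ c').left cV.left ≫ (Over.mk (A.1.ι ≫ R.hom)).hom)
  let π : d' ⟶ Over.mk (A.1.ι ≫ R.hom) := Over.homMk (pullback.fst _ _) rfl
  let π' : d' ⟶ V := Over.homMk (pullback.snd (iA ≫ c').left cV.left) (by
    show pullback.snd _ _ ≫ V.hom = pullback.fst _ _ ≫ _
    rw [← Over.w (iA ≫ c'), ← Over.w cV, pullback.condition_assoc])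
  have : Flat π.left := inferInstanceAs (Flat (pullback.fst (iA ≫ c').left cV.left))
  have : Surjective π.left := inferInstanceAs (Surjective (pullback.fst (iA ≫ c').left cV.left))
  have : QuasiCompact π.left := inferInstanceAs (QuasiCompact (pullback.fst (iA ≫ c').left cV.left))
  refine AlgSpB.Fpqc.hom_ext_fpqc hB.diag π ?_
  have e : π ≫ iA ≫ c' = π' ≫ cV := Over.OverMorphism.ext pullback.condition
  simp only [← Functor.map_comp_assoc]
  rw [e, Functor.map_comp, Category.assoc, hy, ← Category.assoc]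
  refine hxl i d' π' _ ?_
  rw [Category.assoc, hla, ← Functor.map_comp_assoc, Category.assoc, e]

/-- Morphisms into an algebraic space agree if they agree on an fpqc covering. -/
theorem hom_ext (hg : IsFpqcCover Ti g) (hT : IsAlgSpace T) (hB : IsAlgSpace B) {a b : T ⟶ B}
    (h : ∀ i, g i ≫ a = g i ≫ b) : a = b := by
  obtain ⟨U, p, hpe, hps⟩ := hT.atlas
  refine AlgSp.InfSpace.hom_ext_cover_sp hpe hps (hom_ext_affineOpens fun A => ?_)
  have : IsAffine (Over.mk (A.1.ι ≫ U.hom)).left := A.2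
  refine unique_affine hg hB ((yon S).map (Over.homMk A.1.ι rfl : Over.mk (A.1.ι ≫ U.hom) ⟶ U) ≫ p)
    fun i W c l hl => ?_
  rw [← Category.assoc _ p a, ← Category.assoc _ p b, ← Category.assoc _ _ a, ← Category.assoc _ _ b, ← hl,
    Category.assoc, Category.assoc, h]

/-- Morphisms into an algebraic space glue along an fpqc covering. -/
theorem exists_glue (hg : IsFpqcCover Ti g) (hT : IsAlgSpace T) (hB : IsAlgSpace B) (bi : ∀ i, Ti i ⟶ B)
    (hc : ∀ i j, pullback.fst (g i) (g j) ≫ bi i = pullback.snd (g i) (g j) ≫ bi j) :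
    ∃ b : T ⟶ B, ∀ i, g i ≫ b = bi i := by
  have key : ∀ (i k : ι) (Z : Over S) (z₁ : (yon S).obj Z ⟶ Ti i) (z₂ : (yon S).obj Z ⟶ Ti k),
      z₁ ≫ g i = z₂ ≫ g k → z₁ ≫ bi i = z₂ ≫ bi k := fun i k Z z₁ z₂ e => by
    have := congrArg (pullback.lift z₁ z₂ e ≫ ·) (hc i k)
    simpa using this
  obtain ⟨U, p, hpe, hps⟩ := hT.atlas
  let O : U.left.affineOpens → Over S := fun A => Over.mk (A.1.ι ≫ U.hom)
  let o : ∀ A, O A ⟶ U := fun A => Over.homMk A.1.ι rfl
  have : ∀ A, IsAffine (O A).left := fun A => A.2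
  choose y hy using fun A => exists_affine hg hB key ((yon S).map (o A) ≫ p)
  have hcov : Presieve.ofArrows (fun A => (O A).left) (fun A => (o A).left) ∈ Scheme.fppfPrecoverage U.left := by
    refine AlgSpB.Fpqc.mem_fppf_of_etale (fun V : U.left.affineOpens => (V.1 : Scheme.{u})) (fun V => V.1.ι) fun t => ?_
    obtain ⟨V, hV, htV, -⟩ := exists_isAffineOpen_mem_and_subset (x := t) (U := ⊤) trivial
    refine ⟨⟨V, hV⟩, ?_⟩
    rw [Scheme.Opens.range_ι]
    exact htV
  have agree : ∀ (A A' : U.left.affineOpens) (Q : Over S) (a : Q ⟶ O A) (a' : Q ⟶ O A'),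
      (yon S).map (a ≫ o A) ≫ p = (yon S).map (a' ≫ o A') ≫ p → (yon S).map a ≫ y A = (yon S).map a' ≫ y A' := by
    intro A A' Q a a' e
    refine hom_ext_affineOpens fun D => ?_
    have : IsAffine (Over.mk (D.1.ι ≫ Q.hom)).left := D.2
    refine unique_affine hg hB ((yon S).map (Over.homMk D.1.ι rfl : Over.mk (D.1.ι ≫ Q.hom) ⟶ Q) ≫
      (yon S).map (a ≫ o A) ≫ p) fun i W c l hl => ?_
    simp only [← Functor.map_comp_assoc] at hl ⊢
    have e' := congrArg ((yon S).map (c ≫ (Over.homMk D.1.ι rfl : Over.mk (D.1.ι ≫ Q.hom) ⟶ Q)) ≫ ·) e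
    simp only [← Functor.map_comp_assoc, Category.assoc] at e' hl
    rw [hy A i W _ l (by simpa using hl), hy A' i W _ l (by simpa using hl.trans e')]
  have hsh := (Presieve.isSheafFor_arrows_iff _ _).1 (AlgSpB.Fpqc.isSheafFor_fppf B O o hcov)
  obtain ⟨s, hs, -⟩ := hsh (fun A => yEquiv (y A)) fun A A' Q a a' e => by
    rw [← yEquiv_map, ← yEquiv_map]
    exact congrArg yEquiv (agree A A' Q a a' (by rw [e]))
  let x : (yon S).obj U ⟶ B := yEquiv.symm s
  have hx : ∀ A, (yon S).map (o A) ≫ x = y A := fun A => yEquiv.injective (by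
    rw [yEquiv_map, Equiv.apply_symm_apply]; exact hs A)
  have hxc : Char (g := g) bi p x := by
    intro i W c l hl
    let D : U.left.affineOpens → Over S := fun A => Over.mk (pullback.fst c.left (o A).left ≫ W.hom)
    let r : ∀ A, D A ⟶ W := fun A => Over.homMk (pullback.fst _ _) rfl
    let r' : ∀ A, D A ⟶ O A := fun A => Over.homMk (pullback.snd c.left (o A).left) (by
      show pullback.snd _ _ ≫ _ = pullback.fst _ _ ≫ W.hom
      rw [← Over.w (o A), ← Over.w c, pullback.condition_assoc])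
    have : ∀ A, Etale (r A).left := fun A =>
      have : Etale (o A).left := inferInstanceAs (Etale A.1.ι)
      inferInstanceAs (Etale (pullback.fst c.left (o A).left))
    refine AlgSpB.Fpqc.hom_ext_fppf D r (AlgSpB.Fpqc.mem_fppf_of_etale _ _ fun t => ?_) fun A => ?_
    · obtain ⟨V, hV, htV, -⟩ := exists_isAffineOpen_mem_and_subset (x := c.left t) (U := ⊤) trivial
      refine ⟨⟨V, hV⟩, ?_⟩
      show t ∈ Set.range (pullback.fst c.left (o ⟨V, hV⟩).left)
      rw [Scheme.Pullback.range_fst]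
      show c.left t ∈ Set.range (Scheme.Opens.ι V)
      rw [Scheme.Opens.range_ι]
      exact htV
    · have e : r A ≫ c = r' A ≫ o A := Over.OverMorphism.ext pullback.condition
      rw [← Functor.map_comp_assoc, e, Functor.map_comp, Category.assoc, hx, ← Category.assoc]
      refine hy A i _ _ _ ?_
      rw [Category.assoc, hl, ← Functor.map_comp_assoc, e, Functor.map_comp, Category.assoc]
  obtain ⟨b, hb⟩ := AlgSp.InfSpace.exists_desc hpe hps x fun Z a a' e => by
    obtain ⟨a, rfl⟩ := (yon S).map_surjective a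
    obtain ⟨a', rfl⟩ := (yon S).map_surjective a'
    refine hom_ext_affineOpens fun D => ?_
    have : IsAffine (Over.mk (D.1.ι ≫ Z.hom)).left := D.2
    refine unique_affine hg hB ((yon S).map (Over.homMk D.1.ι rfl : Over.mk (D.1.ι ≫ Z.hom) ⟶ Z) ≫
      (yon S).map a ≫ p) fun i W c l hl => ?_
    simp only [← Functor.map_comp_assoc] at hl ⊢
    rw [hxc i W _ l hl, hxc i W _ l (by
      rw [hl, Functor.map_comp, Functor.map_comp, Category.assoc, Category.assoc, e]
      simp)]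
  refine ⟨b, fun i => Groth.Agent.AlgSp.hom_ext_yon fun Q q => ?_⟩
  have : Sheaf.IsLocallySurjective p := Groth.Agent.AlgSp.isLocallySurjective_of_etale_surjective p hpe hps
  obtain ⟨R, r, pr, sq⟩ := Groth.Agent.AlgSpB.exists_pullback_yon hpe.1 (q ≫ g i)
  have hsr : RepWith @Surjective ((yon S).map pr) :=
    (repWith_yon_map_iff _ _).2 (hps.2 _ _ _ sq)
  have her : RepWith @Etale ((yon S).map pr) := (repWith_yon_map_iff _ _).2 (hpe.2 _ _ _ sq)
  refine AlgSp.InfSpace.hom_ext_cover_sp her hsr ?_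
  rw [← Category.assoc q (g i), ← Category.assoc ((yon S).map pr), ← sq.w, Category.assoc, hb,
    hxc i R r ((yon S).map pr ≫ q) (by rw [Category.assoc]; exact sq.w.symm), Category.assoc]

end Groth.Agent.FpqcHom
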